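import Groth.Agent.Ega4late.H521.SchDenseReg
import Groth.Agent.S1699
import Groth.Agent.S3842
import Mathlib.RingTheory.Ideal.MinimalPrime.Localization
import Mathlib.RingTheory.Ideal.AssociatedPrime.Finiteness

/-!
# Schematically dense opens of an affine scheme and regular elements
-/

set_option autoImplicit false
universe u
open CategoryTheory CategoryTheory.Limits AlgebraicGeometry TopologicalSpace

namespace Groth.Agent.Ega4late.H521.SchDenseAffine

open Groth.Agent.Ega4late.H521.SchDenseReg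

variable {X : Scheme.{u}}

/-- The functions vanishing off `U`. -/
def vanIdeal (U : X.Opens) : Ideal Γ(X, ⊤) where
  carrier := {t | X.basicOpen t ≤ U}
  add_mem' := by
    intro a b ha hb x hx
    have h1 : X.basicOpen (a + b) ≤ X.basicOpen a ⊔ X.basicOpen b := by
      intro y hy
      have hy' := (X.mem_basicOpen (a + b) y trivial).mp hy
      rw [map_add] at hy'
      rcases IsLocalRing.isUnit_or_isUnit_of_isUnit_add hy' with h | h
      · exact Or.inl ((X.mem_basicOpen a y trivial).mpr h)
      · exact Or.inr ((X.mem_basicOpen b y trivial).mpr h)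
    rcases h1 hx with h | h
    · exact ha h
    · exact hb h
  zero_mem' := by
    change X.basicOpen 0 ≤ U
    rw [X.basicOpen_zero]
    exact bot_le
  smul_mem' := by
    intro c a ha
    change X.basicOpen (c * a) ≤ U
    rw [X.basicOpen_mul]
    exact inf_le_right.trans ha

lemma mem_vanIdeal {U : X.Opens} {t : Γ(X, ⊤)} : t ∈ vanIdeal U ↔ X.basicOpen t ≤ U := Iff.rfl

/-- The ideal of functions vanishing off `U` is not contained in the prime of a point of `U`. -/
lemma not_vanIdeal_le [IsAffine X] {U : X.Opens} {x : X} (hx : x ∈ U) :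
    ¬ vanIdeal U ≤ ((isAffineOpen_top X).primeIdealOf ⟨x, trivial⟩).asIdeal := by
  intro hle
  obtain ⟨f, hfU, hxf⟩ := (isAffineOpen_top X).exists_basicOpen_le (V := U) ⟨x, hx⟩ trivial
  have := hle (mem_vanIdeal.mpr hfU)
  exact (Groth.Agent.Fdesc.QCohStalk.mem_basicOpen_iff (isAffineOpen_top X) x trivial f).mp hxf this

/-- Germs of a nonzerodivisor on an affine scheme. -/
lemma germ_mem_nonZeroDivisors [IsAffine X] {t : Γ(X, ⊤)} (ht : t ∈ nonZeroDivisors Γ(X, ⊤)) (x : X) :
    X.presheaf.germ ⊤ x trivial t ∈ nonZeroDivisors ↑(X.presheaf.stalk x) := by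
  let _ : Algebra Γ(X, ⊤) (X.presheaf.stalk x) :=
    TopCat.Presheaf.algebra_section_stalk X.presheaf (U := ⊤) ⟨x, trivial⟩
  have h1 := (isAffineOpen_top X).isLocalization_stalk ⟨x, trivial⟩
  exact IsLocalization.nonZeroDivisors_le_comap
    ((isAffineOpen_top X).primeIdealOf ⟨x, trivial⟩).asIdeal.primeCompl (X.presheaf.stalk x) ht

/-- The easy direction. -/
theorem isSchematicallyDense_of_basicOpen_le [IsAffine X] {U : X.Opens} {t : Γ(X, ⊤)}
    (ht : t ∈ nonZeroDivisors Γ(X, ⊤)) (h : X.basicOpen t ≤ U) : CInt.IsSchematicallyDense U :=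
  isSchematicallyDense_mono h
    (isSchematicallyDense_basicOpen X t fun x => germ_mem_nonZeroDivisors ht x)

/-- Noetherian case. -/
theorem exists_basicOpen_le_of_isNoetherian [IsAffine X] [IsNoetherian X] {U : X.Opens}
    (hU : CInt.IsSchematicallyDense U) :
    ∃ t : Γ(X, ⊤), t ∈ nonZeroDivisors Γ(X, ⊤) ∧ X.basicOpen t ≤ U := by
  have hN : IsNoetherianRing Γ(X, ⊤) :=
    IsLocallyNoetherian.component_noetherian ⟨⊤, isAffineOpen_top X⟩
  have hass := (Groth.Agent.S1699.result X U).mp hU
  by_contra hcon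
  push Not at hcon
  have hsub : (vanIdeal U : Set Γ(X, ⊤)) ⊆
      ⋃ p ∈ associatedPrimes Γ(X, ⊤) Γ(X, ⊤), (id p : Ideal Γ(X, ⊤)) := by
    intro t ht
    have h1 : t ∉ nonZeroDivisors Γ(X, ⊤) := fun h => hcon t h ht
    have h2 : t ∈ (nonZeroDivisors Γ(X, ⊤) : Set Γ(X, ⊤))ᶜ := h1
    rw [← biUnion_associatedPrimes_eq_compl_nonZeroDivisors] at h2
    exact h2
  rw [Ideal.subset_union_prime_finite (associatedPrimes.finite _ _) (f := id) 0 0
    fun _ h _ _ => h.1] at hsub
  obtain ⟨p, hp, hle⟩ := hsub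
  obtain ⟨x, hx, hxp⟩ := Groth.Agent.Divis.WeakAss.exists_point (isAffineOpen_top X) ⟨p, hp.1⟩
  have hxp' : ((isAffineOpen_top X).primeIdealOf ⟨x, hx⟩).asIdeal = p :=
    congr_arg PrimeSpectrum.asIdeal hxp
  have hxU : x ∈ U := by
    apply hass
    rw [Groth.Agent.Divis.AssRing.isAssociatedPrime_stalk_iff (isAffineOpen_top X) trivial]
    rw [hxp']
    exact hp
  apply not_vanIdeal_le hxU
  rw [hxp']
  exact hle

/-- Reduced case. -/
theorem exists_basicOpen_le_of_isReduced [IsAffine X] [IsReduced X]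
    (hfin : (irreducibleComponents ↥X).Finite) {U : X.Opens}
    (hU : CInt.IsSchematicallyDense U) :
    ∃ t : Γ(X, ⊤), t ∈ nonZeroDivisors Γ(X, ⊤) ∧ X.basicOpen t ≤ U := by
  have hred : _root_.IsReduced Γ(X, ⊤) := IsReduced.component_reduced ⊤
  have hdense := Groth.Agent.S3842.dense_of_isSchematicallyDense U hU
  -- points attached to minimal primes
  have hpt : ∀ p : Ideal Γ(X, ⊤), p ∈ minimalPrimes Γ(X, ⊤) → ∃ x : X,
      ((isAffineOpen_top X).primeIdealOf ⟨x, trivial⟩).asIdeal = p ∧ x ∈ U ∧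
        closure {x} ∈ irreducibleComponents ↥X := by
    intro p hp
    obtain ⟨x, hx, hxp⟩ := Groth.Agent.Divis.WeakAss.exists_point (isAffineOpen_top X) ⟨p, hp.1.1⟩
    have hxp' : ((isAffineOpen_top X).primeIdealOf ⟨x, hx⟩).asIdeal = p :=
      congr_arg PrimeSpectrum.asIdeal hxp
    have hZ : closure {x} ∈ irreducibleComponents ↥X := by
      have h1 := irreducibleComponent_mem_irreducibleComponents x
      have h2 : IsIrreducible (irreducibleComponent x) := isIrreducible_irreducibleComponent
      obtain ⟨y, hy⟩ := QuasiSober.sober h2 isClosed_irreducibleComponent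
      have hyx : y ⤳ x := by
        rw [specializes_iff_mem_closure, hy.def]
        exact mem_irreducibleComponent
      have hxy : x ⤳ y := by
        rw [Groth.Agent.Divis.WeakAss.specializes_iff_primeIdealOf_le (isAffineOpen_top X)
          trivial trivial, hxp']
        apply hp.2
        · exact ⟨((isAffineOpen_top X).primeIdealOf ⟨y, trivial⟩).isPrime, bot_le⟩
        · rw [← hxp']
          exact (Groth.Agent.Divis.WeakAss.specializes_iff_primeIdealOf_le (isAffineOpen_top X)
            trivial trivial).mp hyx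
      have hxy' : x = y := (hxy.antisymm hyx).eq
      rw [hxy', hy.def]
      exact h1
    refine ⟨x, hxp', ?_, hZ⟩
    obtain ⟨u, hu, huU⟩ := Groth.Agent.S3842.inter_nonempty_of_dense hdense hZ
      (subset_closure rfl) isOpen_univ (Set.mem_univ x) (hfin.subset fun Z h => h.1)
    have : x ⤳ u := specializes_iff_mem_closure.mpr hu
    exact this.mem_open U.isOpen huU
  have hmin : (minimalPrimes Γ(X, ⊤)).Finite := by
    classical
    let F : Ideal Γ(X, ⊤) → Set ↥X := fun p =>
      if h : p ∈ minimalPrimes Γ(X, ⊤) then closure {(hpt p h).choose} else ∅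
    refine Set.Finite.of_finite_image (f := F) (hfin.subset ?_) ?_
    · rintro _ ⟨p, hp, rfl⟩
      have : F p = closure {(hpt p hp).choose} := dif_pos hp
      rw [this]
      exact (hpt p hp).choose_spec.2.2
    · intro p hp q hq hpq
      have h1 : F p = closure {(hpt p hp).choose} := dif_pos hp
      have h2 : F q = closure {(hpt q hq).choose} := dif_pos hq
      have hpq' : closure {(hpt p hp).choose} = closure {(hpt q hq).choose} := by
        rw [← h1, ← h2]; exact hpq
      have h3 : (hpt p hp).choose = (hpt q hq).choose :=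
        (inseparable_iff_closure_eq.mpr hpq').eq
      rw [← (hpt p hp).choose_spec.1, ← (hpt q hq).choose_spec.1, h3]
  by_contra hcon
  push Not at hcon
  have hsub : (vanIdeal U : Set Γ(X, ⊤)) ⊆
      ⋃ p ∈ minimalPrimes Γ(X, ⊤), (id p : Ideal Γ(X, ⊤)) := by
    intro t ht
    have h1 : t ∉ nonZeroDivisors Γ(X, ⊤) := fun h => hcon t h ht
    have h2 := Ideal.iUnion_minimalPrimes (I := (⊥ : Ideal Γ(X, ⊤)))
    have h3 : t ∈ ⋃ p ∈ (⊥ : Ideal Γ(X, ⊤)).minimalPrimes, (p : Set Γ(X, ⊤)) := by
      rw [h2]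
      rw [mem_nonZeroDivisors_iff_right] at h1
      push Not at h1
      obtain ⟨y, hy, hy0⟩ := h1
      have hrad : (⊥ : Ideal Γ(X, ⊤)).radical = ⊥ := by
        have := (nilradical_eq_zero Γ(X, ⊤))
        exact this
      refine ⟨y, ?_, ?_⟩
      · rw [hrad]; exact hy0
      · rw [hrad, mul_comm]; exact hy
    exact h3
  rw [Ideal.subset_union_prime_finite hmin (f := id) 0 0 fun _ h _ _ => h.1.1] at hsub
  obtain ⟨p, hp, hle⟩ := hsub
  obtain ⟨x, hxp, hxU, -⟩ := hpt p hp
  apply not_vanIdeal_le hxU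
  rw [hxp]
  exact hle

end Groth.Agent.Ega4late.H521.SchDenseAffine
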